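import Mathlib.RingTheory.RegularLocalRing.Defs
import Mathlib.RingTheory.TensorProduct.Basic
import Mathlib.RingTheory.Flat.Basic
import Mathlib.RingTheory.Ideal.AssociatedPrime.Localization
import Groth.Agent.FibDepth.AB
import Groth.Agent.TorKunneth.Filtration
import Mathlib.Algebra.Homology.DerivedCategory.Ext.EnoughProjectives

/-!
Vanishing of `Hom`, `Ext²` and `Tor₁` between torsion free modules on components of a planar curve singularity
without common component.
-/

set_option autoImplicit false
set_option linter.style.haveILetI false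
set_option backward.isDefEq.respectTransparency false

universe u

open CategoryTheory TensorProduct IsLocalRing

namespace Groth.Agent.PlanarVan

variable {R : Type u} [CommRing R] [IsLocalRing R]

/-- An element killed by `I` and `J` vanishes on a module with a regular element. -/
theorem eq_zero_of_smul (I J : Ideal R) (n : ℕ) (hIJ : maximalIdeal R ^ n ≤ I ⊔ J) {W : Type u} [AddCommGroup W]
    [Module R W] {y : R} (hy : y ∈ maximalIdeal R) (hreg : IsSMulRegular W y) (w : W)
    (hI : ∀ r ∈ I, r • w = 0) (hJ : ∀ r ∈ J, r • w = 0) : w = 0 := by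
  obtain ⟨a, ha, b, hb, hab⟩ := Submodule.mem_sup.1 (hIJ (Ideal.pow_mem_pow hy n))
  refine (hreg.pow n).right_eq_zero_of_smul ?_
  rw [← hab, add_smul, hI a ha, hJ b hb, add_zero]

/-- A presentation `P → F → L → 0` by finite projectives in which the annihilator of `L` acts null homotopically. -/
theorem exists_pres (S : Type u) [CommRing S] [IsRegularLocalRing S] (hS : ringKrullDim S = 2) (π : S →+* R)
    (hπ : Function.Surjective π) (L : Type u) [AddCommGroup L] [Module R L] [Module.Finite R L] {z : R}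
    (hz : z ∈ maximalIdeal R) (hzL : IsSMulRegular L z) :
    ∃ (P F : ModuleCat.{u} R) (φ : P ⟶ F) (p : F ⟶ ModuleCat.of R L), Module.Finite R P ∧ Module.Projective R P ∧
      Module.Projective R F ∧ Function.Surjective p ∧ LinearMap.range φ.hom = LinearMap.ker p.hom ∧
      ∀ r ∈ Module.annihilator R L, ∃ h : F ⟶ P, ∀ v, h (φ v) = r • v := by
  classical
  letI : Algebra S R := π.toAlgebra
  letI : Module S L := Module.compHom L π
  haveI : IsScalarTower S R L := IsScalarTower.of_algebraMap_smul fun _ _ => rfl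
  obtain ⟨b, q, hq⟩ := Module.Finite.exists_fin' R L
  let c : (Fin b → S) →ₗ[S] (Fin b → R) := (Algebra.linearMap S R).compLeft (Fin b)
  have hc : Function.Surjective c := fun v =>
    ⟨fun i => Function.surjInv hπ (v i), funext fun i => Function.surjInv_eq hπ (v i)⟩
  let qS : (Fin b → S) →ₗ[S] L := (q.restrictScalars S).comp c
  have hqS : Function.Surjective qS := hq.comp hc
  haveI : Module.Finite S L := Module.Finite.of_surjective qS hqS
  obtain ⟨zS, rfl⟩ := hπ z
  have hzm : zS ∈ maximalIdeal S := by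
    intro hu
    exact hz (hu.map π)
  have hdep : ((2 - 1 : ℕ) : ℕ∞) ≤ LocCoh.depth S L := by
    rw [LocCoh.depth, LocCoh.idealDepth]
    split_ifs
    · exact le_top
    · refine le_iSup₂_of_le [zS] ⟨(RingTheory.Sequence.isWeaklyRegular_cons_iff L zS []).2
        ⟨hzL, RingTheory.Sequence.IsWeaklyRegular.nil _ _⟩, by simpa using hzm⟩ ?_
      simp
  have hK : Module.Projective S (LinearMap.ker qS) :=
    (SerreReg.pdLE_zero_iff _).1
      ((SerreReg.pdLE_succ_iff qS hqS 0).1 ((FibDepth.pdLE_iff_le_depth S hS 1 L).2 hdep))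
  let φ : R ⊗[S] (LinearMap.ker qS) →ₗ[R] (Fin b → R) :=
    LinearMap.liftBaseChange R (c.comp (LinearMap.ker qS).subtype)
  have hφ : ∀ (a : R) (k : LinearMap.ker qS), φ (a ⊗ₜ k) = a • c k.1 := fun a k => by simp [φ]
  refine ⟨ModuleCat.of R (R ⊗[S] LinearMap.ker qS), ModuleCat.of R (Fin b → R), ModuleCat.ofHom φ, ModuleCat.ofHom q,
    inferInstanceAs (Module.Finite R (R ⊗[S] LinearMap.ker qS)),
    inferInstanceAs (Module.Projective R (R ⊗[S] LinearMap.ker qS)),
    inferInstanceAs (Module.Projective R (Fin b → R)), hq, ?_, ?_⟩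
  · refine le_antisymm ?_ fun v hv => ?_
    · rintro _ ⟨t, rfl⟩
      induction t using TensorProduct.induction_on with
      | zero => simp
      | tmul a k =>
        refine LinearMap.mem_ker.2 ?_
        change q (φ (a ⊗ₜ k)) = 0
        rw [hφ, map_smul, show q (c k.1) = 0 from k.2, smul_zero]
      | add t t' ht ht' =>
        change φ (t + t') ∈ LinearMap.ker q
        rw [map_add]
        exact add_mem ht ht'
    · obtain ⟨w, rfl⟩ := hc v
      exact ⟨1 ⊗ₜ ⟨w, hv⟩, (hφ 1 _).trans (one_smul _ _)⟩
  · intro r hr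
    obtain ⟨s, rfl⟩ := hπ r
    have hmem : ∀ v : Fin b → S, s • v ∈ LinearMap.ker qS := fun v => by
      rw [LinearMap.mem_ker, map_smul]
      exact Module.mem_annihilator.1 hr (qS v)
    let h₀ : (Fin b → S) →ₗ[S] LinearMap.ker qS :=
      (s • LinearMap.id : (Fin b → S) →ₗ[S] (Fin b → S)).codRestrict _ hmem
    let h : (Fin b → R) →ₗ[R] R ⊗[S] LinearMap.ker qS :=
      (Pi.basisFun R (Fin b)).constr R fun i => (1 : R) ⊗ₜ[S] h₀ (Pi.single i 1)
    have key : ∀ w : Fin b → S, h (c w) = (1 : R) ⊗ₜ[S] h₀ w := fun w => by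
      suffices he : (h.restrictScalars S).comp c = (TensorProduct.mk S R (LinearMap.ker qS) 1).comp h₀ from
        LinearMap.congr_fun he w
      refine LinearMap.pi_ext' fun i => LinearMap.ext_ring ?_
      have hci : c (Pi.single i 1) = Pi.single i 1 := funext fun j => by
        by_cases hj : j = i
        · subst hj
          simp [c]
        · simp [c, hj]
      change h (c (Pi.single i 1)) = (1 : R) ⊗ₜ[S] h₀ (Pi.single i 1)
      rw [hci, ← Pi.basisFun_apply (R := R), Module.Basis.constr_basis]
    refine ⟨ModuleCat.ofHom h, fun t => ?_⟩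
    change h (φ t) = π s • t
    refine LinearMap.congr_fun (f := h.comp φ) (g := π s • LinearMap.id) ?_ t
    refine TensorProduct.AlgebraTensorModule.ext fun a k => ?_
    change h (φ (a ⊗ₜ k)) = π s • (a ⊗ₜ[S] k)
    have hk : h₀ k.1 = s • k := Subtype.ext rfl
    rw [hφ, map_smul, key, hk, TensorProduct.tmul_smul, ← algebraMap_smul R s ((1 : R) ⊗ₜ[S] k), smul_smul,
      mul_comm, ← smul_smul, TensorProduct.smul_tmul' a, smul_eq_mul, mul_one]
    rfl

/-- `Ext²` vanishes. -/
theorem subsingleton_ext_two (S : Type u) [CommRing S] [IsRegularLocalRing S] (hS : ringKrullDim S = 2)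
    (π : S →+* R) (hπ : Function.Surjective π) (I J : Ideal R) (n : ℕ) (hIJ : maximalIdeal R ^ n ≤ I ⊔ J)
    (M N : Type u) [AddCommGroup M] [Module R M] [Module.Finite R M] [AddCommGroup N] [Module R N]
    (hI : I ≤ Module.annihilator R M) (hJ : J ≤ Module.annihilator R N) {x : R} (hx : x ∈ maximalIdeal R)
    (hxM : IsSMulRegular M x) {y : R} (hy : y ∈ maximalIdeal R) (hyN : IsSMulRegular N y) :
    Subsingleton (Abelian.Ext (ModuleCat.of R M) (ModuleCat.of R N) 2) := by
  obtain ⟨P, F, φ, p, -, hP, hF, hp, hex, hh⟩ := exists_pres S hS π hπ M hx hxM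
  haveI : Projective P := (IsProjective.iff_projective P).1 hP
  haveI : Projective F := (IsProjective.iff_projective F).1 hF
  let ψ : P →ₗ[R] LinearMap.ker p.hom := φ.hom.codRestrict _ fun v => hex ▸ LinearMap.mem_range_self φ.hom v
  have hψ : Function.Surjective ψ := fun w => by
    obtain ⟨v, hv⟩ := (hex.symm ▸ w.2 : w.1 ∈ LinearMap.range φ.hom)
    exact ⟨v, Subtype.ext hv⟩
  have hS₁ : (p.hom.shortComplexKer).ShortExact := LinearMap.shortExact_shortComplexKer hp
  have hS₂ : (ψ.shortComplexKer).ShortExact := LinearMap.shortExact_shortComplexKer hψ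
  haveI : Projective (p.hom.shortComplexKer).X₂ := ‹Projective F›
  haveI : Projective (ψ.shortComplexKer).X₂ := ‹Projective P›
  refine subsingleton_of_forall_eq 0 fun e => ?_
  obtain ⟨e₁, he₁⟩ := Abelian.Ext.contravariant_sequence_exact₃ hS₁ (ModuleCat.of R N) e
    (Abelian.Ext.eq_zero_of_projective _) (show 1 + 1 = 2 from rfl)
  obtain ⟨g, hg⟩ := Abelian.Ext.contravariant_sequence_exact₃ hS₂ (ModuleCat.of R N) e₁
    (Abelian.Ext.eq_zero_of_projective _) (show 1 + 0 = 1 from rfl)
  obtain ⟨g, rfl⟩ := Abelian.Ext.addEquiv₀.symm.surjective g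
  have hg0 : g = 0 := ModuleCat.hom_ext (LinearMap.ext fun k => by
    refine eq_zero_of_smul I J n hIJ hy hyN _ (fun r hr => ?_) fun r hr => Module.mem_annihilator.1 (hJ hr) _
    obtain ⟨h, hh⟩ := hh r (hI hr)
    rw [← map_smul]
    have hk : φ k.1 = 0 := congrArg Subtype.val (k.2 : ψ k.1 = 0)
    have hrk : r • k = 0 := Subtype.ext (by
      refine (hh k.1).symm.trans ?_
      rw [hk, map_zero]
      rfl)
    rw [hrk, map_zero])
  rw [← he₁, ← hg, hg0, map_zero, Abelian.Ext.comp_zero, Abelian.Ext.comp_zero]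

omit [IsLocalRing R] in
/-- A dual module is torsion free along a regular element, over a reduced ring. -/
theorem isSMulRegular_dual [IsNoetherianRing R] [IsReduced R] {N : Type u} [AddCommGroup N] [Module R N]
    [Module.Finite R N] {y : R} (hy : IsSMulRegular N y) : IsSMulRegular (Module.Dual R N) y := by
  suffices H : ∀ g : N →ₗ[R] R, y • g = 0 → g = 0 from (isSMulRegular_iff_right_eq_zero_of_smul (M := N →ₗ[R] R) (r := y)).2 H
  intro g hg
  refine LinearMap.ext fun v => ?_
  refine IsReduced.eq_zero _ (nilpotent_iff_mem_prime.2 fun p hp => ?_)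
  haveI := hp
  obtain ⟨q, hq, hqp⟩ := Ideal.exists_minimalPrimes_le (bot_le : (⊥ : Ideal R) ≤ p)
  refine hqp ?_
  haveI := hq.1.1
  by_contra hv
  have hann : Module.annihilator R N ≤ q := fun s hs => by
    have h1 : s * g v = 0 := by
      rw [← smul_eq_mul, ← map_smul, Module.mem_annihilator.1 hs v, map_zero]
    exact (hq.1.1.mem_or_mem (h1 ▸ q.zero_mem)).resolve_right hv
  have hqmin : q ∈ (Module.annihilator R N).minimalPrimes :=
    ⟨⟨hq.1.1, hann⟩, fun q' hq' hle => hq.2 ⟨hq'.1, bot_le⟩ hle⟩
  have hyq : y ∈ q := by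
    have h1 : y * g v = 0 := by
      rw [← smul_eq_mul, ← LinearMap.smul_apply, hg, LinearMap.zero_apply]
    exact (hq.1.1.mem_or_mem (h1 ▸ q.zero_mem)).resolve_right hv
  have hass := Module.associatedPrimes.minimalPrimes_annihilator_subset_associatedPrimes R N hqmin
  have hzd : y ∈ ⋃ q ∈ associatedPrimes R N, (q : Set R) := Set.mem_biUnion hass hyq
  rw [biUnion_associatedPrimes_eq_zero_divisors] at hzd
  obtain ⟨w, hw, hw'⟩ := hzd
  exact hw (hy.right_eq_zero_of_smul hw')

/-- `Tor₁` vanishes. -/
theorem isZero_tor_one [IsNoetherianRing R] (S : Type u) [CommRing S] [IsRegularLocalRing S] (hS : ringKrullDim S = 2)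
    (π : S →+* R) (hπ : Function.Surjective π) (I J : Ideal R) (n : ℕ) (hIJ : maximalIdeal R ^ n ≤ I ⊔ J)
    (M L : Type u) [AddCommGroup M] [Module R M] [AddCommGroup L] [Module R L] [Module.Finite R L]
    (hI : I ≤ Module.annihilator R M) (hJ : J ≤ Module.annihilator R L) {x : R} (hx : x ∈ maximalIdeal R)
    (hxM : IsSMulRegular M x) {z : R} (hz : z ∈ maximalIdeal R) (hzL : IsSMulRegular L z) :
    Limits.IsZero (((Tor (ModuleCat.{u} R) 1).obj (ModuleCat.of R M)).obj (ModuleCat.of R L)) := by
  obtain ⟨P, F, φ, p, -, hP, hF, hp, hex, hh⟩ := exists_pres S hS π hπ L hz hzL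
  haveI := hP
  haveI : Projective (p.hom.shortComplexKer).X₂ := (IsProjective.iff_projective F).1 hF
  obtain ⟨e⟩ := TorKunneth.nonempty_tor_one (ModuleCat.of R M) (LinearMap.shortExact_shortComplexKer hp)
  let ψ : P →ₗ[R] LinearMap.ker p.hom := φ.hom.codRestrict _ fun v => hex ▸ LinearMap.mem_range_self φ.hom v
  have hψ : Function.Surjective ψ := fun w => by
    obtain ⟨v, hv⟩ := (hex.symm ▸ w.2 : w.1 ∈ LinearMap.range φ.hom)
    exact ⟨v, Subtype.ext hv⟩
  have hPreg : IsSMulRegular (M ⊗[R] P) x := by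
    have h1 := Module.Flat.rTensor_preserves_injective_linearMap (M := P) (LinearMap.lsmul R M x) hxM
    intro a b hab
    refine h1 ?_
    have h2 : ∀ a : M ⊗[R] P, LinearMap.rTensor P (LinearMap.lsmul R M x) a = x • a := fun a => by
      induction a using TensorProduct.induction_on with
      | zero => simp
      | tmul m q => simp [TensorProduct.smul_tmul']
      | add a b ha hb => rw [map_add, ha, hb, smul_add]
    rw [h2, h2]
    exact hab
  have hker : ∀ t : M ⊗[R] P, φ.hom.lTensor M t = 0 → t = 0 := by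
    intro t ht
    refine eq_zero_of_smul I J n hIJ hx hPreg t (fun r hr => ?_) fun r hr => ?_
    · refine (fun (H : ∀ t' : M ⊗[R] P, r • t' = 0) => H t) fun t' => ?_
      induction t' using TensorProduct.induction_on with
      | zero => simp
      | tmul m q => rw [TensorProduct.smul_tmul', Module.mem_annihilator.1 (hI hr) m, TensorProduct.zero_tmul]
      | add a b ha hb => rw [smul_add, ha, hb, add_zero]
    · obtain ⟨h, hh⟩ := hh r (hJ hr)
      have he : (h.hom.comp φ.hom).lTensor M t = r • t := by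
        rw [show h.hom.comp φ.hom = r • LinearMap.id from LinearMap.ext hh, LinearMap.lTensor_smul,
          LinearMap.lTensor_id]
        rfl
      rw [← he, LinearMap.lTensor_comp, LinearMap.comp_apply, ht, map_zero]
  have hbot : LinearMap.ker ((p.hom.shortComplexKer).f.hom.lTensor (ModuleCat.of R M)) = ⊥ := by
    refine (Submodule.eq_bot_iff _).2 fun w hw => ?_
    obtain ⟨t, rfl⟩ := LinearMap.lTensor_surjective M hψ w
    have h1 : φ.hom.lTensor M t = 0 := by
      refine Eq.trans ?_ hw
      exact (LinearMap.lTensor_comp_apply M (LinearMap.ker p.hom).subtype ψ t).symm ▸ rfl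
    rw [hker t h1, map_zero]
  haveI : Subsingleton (LinearMap.ker ((p.hom.shortComplexKer).f.hom.lTensor (ModuleCat.of R M))) :=
    Submodule.subsingleton_iff_eq_bot.2 hbot
  haveI := e.toEquiv.subsingleton
  exact @ModuleCat.isZero_of_subsingleton R _ _ ‹_›

end Groth.Agent.PlanarVan
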